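import Cfsg.Agent.Lib.Fusion.DihedralClasses
import Cfsg.Agent.Lib.Cores.Basic
import Cfsg.Prelude.Def_CaseTheorems

/-!
# The centralizer of a central involution of a dihedral Sylow `2`-subgroup
-/

set_option autoImplicit false

namespace Cfsg.Agent.Lib.BSWRecog

open Subgroup DihedralGroup
open Cfsg.Agent.Lib.Fusion.Dihedral

variable {X : Type*} [Group X] {S : Sylow 2 X} {m : ℕ}

theorem mem_rot_of_central (D : Coords S m) (hm : 3 ≤ m) {t : X} (htS : t ∈ (S : Subgroup X))
    (htZ : ∀ s ∈ (S : Subgroup X), s * t = t * s) : t ∈ D.rot := by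
  by_contra hr
  rcases D.cases htS with ⟨i, rfl⟩ | ⟨i, rfl⟩
  · exact hr (D.r_mem_rot i)
  have h := htZ _ (D.mem (r 1))
  rw [← map_mul, ← map_mul, r_mul_sr, sr_mul_r] at h
  have h2 : ((2 : ℕ) : ZMod m) = 0 := by
    have := sr.inj (D.inj h)
    push_cast
    linear_combination -this
  have := Nat.le_of_dvd two_pos ((ZMod.natCast_eq_zero_iff 2 m).1 h2)
  omega

theorem card_rot (D : Coords S m) : Nat.card D.rot = m := by
  unfold Coords.rot
  rw [Nat.card_zpowers, orderOf_injective D.φ D.inj, orderOf_r_one]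

theorem rot_isCyclic (D : Coords S m) : IsCyclic D.rot := by
  unfold Coords.rot; infer_instance

theorem sq_eq_one_of_two (D : Coords S m) (hm : m = 2) {x : X} (hx : x ∈ (S : Subgroup X)) :
    x * x = 1 := by
  subst hm
  obtain ⟨g, rfl⟩ := D.exists_eq hx
  have key : ∀ g : DihedralGroup 2, g * g = 1 := by decide
  rw [← map_mul, key, map_one]

variable [Finite X]

theorem rot_eq_of_cyclic (D : Coords S m) (hm : 3 ≤ m) {A : Subgroup X} (hA : A ≤ S)
    (hcyc : IsCyclic A) (hcard : Nat.card A = m) : A = D.rot := by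
  obtain ⟨c, hc⟩ := hcyc.exists_generator
  have hord : orderOf (c : X) = m := by
    rw [Subgroup.orderOf_coe, orderOf_eq_card_of_forall_mem_zpowers hc, hcard]
  have hcr : (c : X) ∈ D.rot := by
    by_contra hr
    have h1 := orderOf_dvd_of_pow_eq_one (pow_two (c : X) ▸ D.sq_of_notMem_rot (hA c.2) hr)
    have := Nat.le_of_dvd two_pos h1
    omega
  refine eq_of_le_of_card_ge ?_ ?_
  · intro x hx
    obtain ⟨k, hk⟩ := Subgroup.mem_zpowers_iff.1 (hc ⟨x, hx⟩)
    have := congrArg Subtype.val hk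
    rw [SubgroupClass.coe_zpow] at this
    rw [show x = (c : X) ^ k from this.symm]
    exact zpow_mem hcr k
  · rw [hcard, card_rot D]

theorem sq_of_notMem_cyclic (D : Coords S m) (hm : 2 ≤ m) {A : Subgroup X} (hA : A ≤ S)
    (hcyc : IsCyclic A) (hcard : Nat.card A = m) {x : X} (hx : x ∈ (S : Subgroup X)) (hxA : x ∉ A) :
    x * x = 1 := by
  rcases Nat.lt_or_ge m 3 with h | h
  · exact sq_eq_one_of_two D (by omega) hx
  · exact D.sq_of_notMem_rot hx (rot_eq_of_cyclic D h hA hcyc hcard ▸ hxA)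

theorem mem_four_of_central (D : Coords S m) (hm : 2 ≤ m) {t : X} (ht : orderOf t = 2)
    (htS : t ∈ (S : Subgroup X)) (htZ : ∀ s ∈ (S : Subgroup X), s * t = t * s) {R : Subgroup X}
    (hR : R ≤ S) (hf : IsFour R) : t ∈ R := by
  rcases Nat.lt_or_ge m 3 with h | h
  · have : R = (S : Subgroup X) := eq_of_le_of_card_ge hR (by
      rw [D.card, hf.1]; omega)
    rw [this]; exact htS
  · obtain ⟨i, hi⟩ := D.four_contains_sr hm hR hf
    show t ∈ (R : Set X)
    rw [D.four_eq hm hR hf hi]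
    rcases D.invol_cases hm htS ht with e | ⟨j, e⟩
    · simp [Coords.fourSet, e]
    · exact absurd (mem_rot_of_central D h htS htZ) (e ▸ D.sr_notMem_rot j)

theorem perm_three_fix {α : Type*} [Finite α] (hα : Nat.card α = 3) (σ : Equiv.Perm α) (a : α)
    (ha : σ a = a) : σ * σ = 1 := by
  have key : ∀ τ : Equiv.Perm (Fin 3), ∀ a : Fin 3, τ a = a → τ * τ = 1 := by decide +kernel
  let e := (Finite.equivFinOfCardEq hα)
  have h1 := key (e.permCongrHom σ) (e a) (by simp [Equiv.permCongrHom, ha])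
  rw [← map_mul] at h1
  exact (map_eq_one_iff _ e.permCongrHom.injective).1 h1

theorem oddTrivial_of_central {U : Subgroup X} (hU : IsFour U) {t : X} (htU : t ∈ U) (ht1 : t ≠ 1)
    (htc : ∀ g : X, g * t = t * g) : OddTrivial U := by
  intro n hn hodd
  have hk : (⟨n, hn⟩ : normalizer (U : Set X)) ∈ (autPerm U).ker := by
    rw [MonoidHom.mem_ker, ← orderOf_eq_one_iff]
    have hfix : autPerm U ⟨n, hn⟩ ⟨t, htU, ht1⟩ = ⟨t, htU, ht1⟩ := by
      apply Subtype.ext
      show n * t * n⁻¹ = t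
      rw [htc n, mul_inv_cancel_right]
    refine Nat.eq_one_of_dvd_coprimes (Nat.coprime_two_left.2 hodd) ?_ ?_
    · exact orderOf_dvd_of_pow_eq_one (by
        rw [pow_two]; exact perm_three_fix (card_nontriv hU) _ _ hfix)
    · rw [← Subgroup.orderOf_mk n hn]
      exact orderOf_map_dvd _ _
  rw [ker_autPerm, mem_subgroupOf, mem_centralizer_iff] at hk
  exact fun x hx => (hk x hx).symm

/-- If `t` is a central involution, then a dihedral Sylow `2`-subgroup has a normal complement. -/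
theorem exists_eq_core_mul (D : Coords S m) (hm : 2 ≤ m) {t : X} (ht : orderOf t = 2)
    (htc : ∀ g : X, g * t = t * g) (htS : t ∈ (S : Subgroup X)) (g : X) :
    ∃ y ∈ Cfsg.oddCore X, ∃ x ∈ (S : Subgroup X), g = y * x := by
  have : Fact (Nat.Prime 2) := ⟨Nat.prime_two⟩
  have ht1 : t ≠ 1 := fun e => by simp [e] at ht
  obtain ⟨P, N, hN, hc⟩ := D.hasNormalPComplement fun R hR hf =>
    oddTrivial_of_central hf (mem_four_of_central D hm ht htS (fun s _ => htc s) hR hf) ht1 htc
  have hodd : ¬ 2 ∣ Nat.card N := by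
    rw [← hc.index_eq_card]
    exact P.not_dvd_index
  have hle : N ≤ Cfsg.oddCore X := Cores.le_pPrimeCore_of_not_dvd hodd
  have hPS : Nat.card (P : Subgroup X) = Nat.card (S : Subgroup X) :=
    Nat.card_congr (Sylow.equiv P S).toEquiv
  have hc' : N.IsComplement' (S : Subgroup X) := by
    refine isComplement'_of_coprime (by rw [← hPS]; exact hc.card_mul_card) ?_
    obtain ⟨j, hj⟩ := S.2.exists_card_eq
    rw [show Nat.card (S : Subgroup X) = 2 ^ j from hj]
    exact (((Nat.prime_two.coprime_iff_not_dvd).2 hodd).symm).pow_right j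
  obtain ⟨⟨y, x⟩, he, -⟩ := hc'.existsUnique g
  exact ⟨y, hle y.2, x, x.2, he.symm⟩

end Cfsg.Agent.Lib.BSWRecog
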